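import Mathlib
import Groth.Prelude.Def_DualLC
import Groth.Agent.Lib.Helper36.Matlis.System
import Groth.Agent.Lib.Helper36.Matlis.Dualizing
import Groth.Agent.Lib.Helper6.RGammaColim
import Groth.Agent.Lib.Helper12.ShriekDualizing
import Groth.Agent.Lib.Helper14.DualLoc

/-!
# Local cohomology of a normalized dualizing complex (helper36)

`colim_n Hom_{D(A)}(A ⧸ 𝔪ⁿ, K) ≅ E` for a normalized dualizing complex `K`, and the vanishing of the
other degrees.
-/

set_option autoImplicit false
universe u
open CategoryTheory CategoryTheory.Limits Opposite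
attribute [local instance] HasDerivedCategory.standard

namespace Groth.Agent.Lib.Helper36.Matlis

open Groth.Agent.Lib.Helper6.RGammaColim

variable {A : Type u} [CommRing A] [IsLocalRing A] [IsNoetherianRing A]

section Cocone

variable (K : Dual.D A) {E : Type u} [AddCommGroup E] [Module A E]
  (j : ∀ n : ℕ, Fo (homD K) (A ⧸ IsLocalRing.maximalIdeal A ^ n) →ₗ[A] E)
  (hcompat : ∀ (i k : ℕ) (h : i ≤ k), j k ∘ₗ tr (homD K) h = j i)

/-- the cocone on `E` defined by a compatible family -/
noncomputable def coconeE : Cocone (diag (IsLocalRing.maximalIdeal A) K) where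
  pt := ModuleCat.of A (ULift.{u + 1} E)
  ι :=
    { app := fun n => ModuleCat.ofHom (ULift.moduleEquiv.symm.toLinearMap ∘ₗ j n.unop.unop)
      naturality := fun n n' w => by
        ext φ
        have h : n.unop.unop ≤ n'.unop.unop := leOfHom w.unop.unop
        have := LinearMap.congr_fun (hcompat _ _ h) φ
        exact congrArg ULift.up this }

lemma coconeE_ι_app (n : ℕᵒᵖᵒᵖ) (φ : Fo (homD K) (A ⧸ IsLocalRing.maximalIdeal A ^ n.unop.unop)) :
    ((coconeE K j hcompat).ι.app n).hom φ = ULift.up (j n.unop.unop φ) := rfl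

theorem bijective_desc_coconeE (hinj : ∀ n, Function.Injective (j n))
    (hsurj : ∀ e : E, ∃ (n : ℕ) (y : Fo (homD K) (A ⧸ IsLocalRing.maximalIdeal A ^ n)), j n y = e) :
    Function.Bijective
      (colimit.desc (diag (IsLocalRing.maximalIdeal A) K) (coconeE K j hcompat)).hom := by
  constructor
  · rw [← LinearMap.ker_eq_bot, LinearMap.ker_eq_bot']
    intro c hc
    obtain ⟨n, x, rfl⟩ := colimit_exists_rep' (diag (IsLocalRing.maximalIdeal A) K) c
    have h1 : (colimit.desc (diag (IsLocalRing.maximalIdeal A) K) (coconeE K j hcompat)).hom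
        ((colimit.ι (diag (IsLocalRing.maximalIdeal A) K) n).hom x) =
        ((coconeE K j hcompat).ι.app n).hom x := by
      rw [← LinearMap.comp_apply, ← ModuleCat.hom_comp, colimit.ι_desc]
    have hc' : ((coconeE K j hcompat).ι.app n).hom x = 0 := h1.symm.trans hc
    have h2 : j n.unop.unop x = 0 := congrArg ULift.down hc'
    have h3 : (x : Fo (homD K) (A ⧸ IsLocalRing.maximalIdeal A ^ n.unop.unop)) = 0 :=
      hinj _ (h2.trans (map_zero (j n.unop.unop)).symm)
    have h4 : x = 0 := h3
    rw [h4, map_zero]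
  · intro e
    obtain ⟨n, y, hy⟩ := hsurj e.down
    refine ⟨(colimit.ι (diag (IsLocalRing.maximalIdeal A) K) (op (op n))).hom y, ?_⟩
    rw [← LinearMap.comp_apply, ← ModuleCat.hom_comp, colimit.ι_desc]
    exact congrArg ULift.up hy

end Cocone

/-- the degree-zero local cohomology of a normalized dualizing complex is `E` -/
theorem nonempty_colimit_equiv (K : Dual.D A) (hK : Dual.IsDualizing A K)
    (hn : Dual.IsNormalized A K) (E : Type u) [AddCommGroup E] [Module A E]
    (f : IsLocalRing.ResidueField A →ₗ[A] E) (hf : InjHull.IsInjectiveHull f) :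
    Nonempty ((colimit (diag (IsLocalRing.maximalIdeal A) K) : ModuleCat.{u + 1} A) ≃ₗ[A] E) := by
  obtain ⟨j, hcompat, hinj, hsurj⟩ := exists_compatible (isMatlis_homD K hK hn) f hf
  exact ⟨(LinearEquiv.ofBijective _ (bijective_desc_coconeE K j hcompat hinj hsurj)).trans
    ULift.moduleEquiv⟩

end Groth.Agent.Lib.Helper36.Matlis
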